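import Groth.Agent.L16.QcqsPush
import Groth.Agent.L16.CohKernel
import Groth.Agent.L16.Acc
import Groth.Agent.L29.DCoh.QCohOps
import Groth.Agent.L21.Mod.Locality
import Groth.Agent.L18.TildeFunctor
import Groth.Agent.L00.LocalData
import Mathlib.Algebra.Category.ModuleCat.Biproducts
import Mathlib.Algebra.Category.ModuleCat.Sheaf.LocallyFree

/-!
# Extending quasi-coherent submodules of finite type
-/

set_option autoImplicit false
set_option linter.style.haveILetI false
set_option backward.isDefEq.respectTransparency false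

universe u

open CategoryTheory CategoryTheory.Limits AlgebraicGeometry TopologicalSpace Opposite

noncomputable section

namespace Groth.L17.Approx

variable {X : Scheme.{u}}

/-- The inclusion of a quasi-compact open is quasi-compact. -/
theorem quasiCompact_ι [QuasiSeparatedSpace X] (W : X.Opens) (hW : IsCompact (W : Set X)) :
    QuasiCompact W.ι := by
  refine (quasiCompact_iff _).2 fun U hU hUc => ?_
  rw [← W.ι.isOpenEmbedding.isInducing.isCompact_iff.symm.trans Iff.rfl] at *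
  rw [show W.ι '' (W.ι ⁻¹' U) = U ∩ W by
    rw [Set.image_preimage_eq_inter_range, Scheme.Opens.range_ι]]
  exact QuasiSeparatedSpace.inter_isCompact U W hU hUc W.2 hW

/-- Restrictions of a map are isomorphisms once it is bijective on the smaller opens. -/
theorem isIso_restrict_of_bijective {H G : X.Modules} (a : H ⟶ G) (V : X.Opens)
    (h : ∀ O : X.Opens, O ≤ V → Function.Bijective (a.app O)) :
    IsIso ((Scheme.Modules.restrictFunctor V.ι).map a) := by
  rw [Scheme.Modules.Hom.isIso_iff_isIso_app]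
  intro O
  exact (ConcreteCategory.isIso_iff_bijective _).2
    (h (V.ι ''ᵁ O) (by rintro _ ⟨x, -, rfl⟩; exact x.2))

/-- An isomorphism on an open restricts to the smaller opens. -/
theorem bijective_app_of_isIso_restrict {H G : X.Modules} (a : H ⟶ G) {V : X.Opens}
    [IsIso ((Scheme.Modules.restrictFunctor V.ι).map a)] {O : X.Opens} (hO : O ≤ V) :
    Function.Bijective (a.app O) := by
  have e : V.ι ''ᵁ (V.ι ⁻¹ᵁ O) = O := by
    rw [V.ι.image_preimage_eq_opensRange_inf, Scheme.Opens.opensRange_ι]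
    exact inf_eq_right.2 hO
  have := Scheme.Modules.Hom.isIso_iff_isIso_app.1
    (inferInstance : IsIso ((Scheme.Modules.restrictFunctor V.ι).map a)) (V.ι ⁻¹ᵁ O)
  have hb : Function.Bijective (a.app (V.ι ''ᵁ (V.ι ⁻¹ᵁ O))) := (ConcreteCategory.isIso_iff_bijective _).1 this
  rwa [e] at hb

/-- Sections of `H` whose restrictions to `W` lie in `K`. -/
theorem exists_shrink [QuasiSeparatedSpace X] (H : X.Modules) [Coh.IsQCoh H] (W : X.Opens)
    (hW : IsCompact (W : Set X)) (K : (↑W : Scheme.{u}).Modules) [Coh.IsQCoh K]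
    (a : K ⟶ H.restrict W.ι) [Mono a] :
    ∃ (E : X.Modules) (i : E ⟶ H) (e : E.restrict W.ι ≅ K), Mono i ∧ Coh.IsQCoh E ∧
      e.hom ≫ a = (Scheme.Modules.restrictFunctor W.ι).map i ∧
      ∀ V : X.Opens, (∀ O : (↑W : Scheme.{u}).Opens, W.ι ''ᵁ O ≤ V → Function.Bijective (a.app O)) →
        IsIso ((Scheme.Modules.restrictFunctor V.ι).map i) := by
  haveI := quasiCompact_ι W hW
  let R := Scheme.Modules.restrictFunctor W.ι
  let P := Scheme.Modules.pushforward W.ι
  let adj := Scheme.Modules.restrictAdjunction W.ι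
  let η : H ⟶ P.obj (H.restrict W.ι) := adj.unit.app H
  let p : P.obj K ⟶ P.obj (H.restrict W.ι) := P.map a
  haveI : PreservesLimitsOfSize.{0, 0} P := adj.rightAdjoint_preservesLimits
  haveI : Mono p := P.map_mono a
  haveI : Coh.IsQCoh (H.restrict W.ι) := Scheme.Modules.isQuasicoherent_restrictFunctor _ H
  haveI : Coh.IsQCoh (P.obj K) := Groth.L16.QcqsPush.isQCoh_push K W.ι
  haveI : Coh.IsQCoh (P.obj (H.restrict W.ι)) := Groth.L16.QcqsPush.isQCoh_push (H.restrict W.ι) W.ι
  haveI : Coh.IsQCoh (cokernel p) := Groth.L29.DC.isQCoh_cokernel' p inferInstance inferInstance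
  let φ := η ≫ cokernel.π p
  haveI hE : Coh.IsQCoh (kernel φ) := Groth.L29.DC.isQCoh_kernel' φ inferInstance inferInstance
  haveI : IsIso (R.map η) := by
    have h := adj.left_triangle_components H
    haveI : IsIso (adj.counit.app (R.obj H)) := inferInstance
    exact IsIso.of_isIso_fac_right h
  -- on `W`
  let c := adj.counit.app (H.restrict W.ι)
  haveI : IsIso c := inferInstance
  have hc : c ≫ R.map η = 𝟙 _ := by
    have h : R.map η ≫ c = 𝟙 _ := adj.left_triangle_components H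
    exact (cancel_epi (R.map η)).1 ((Category.assoc _ _ _).symm.trans
      ((congrArg (· ≫ R.map η) h).trans ((Category.id_comp _).trans (Category.comp_id _).symm)))
  have hcφ : c ≫ R.map φ = R.map (cokernel.π p) := by
    rw [R.map_comp, ← Category.assoc, hc]
    exact Category.id_comp _
  have hnat : R.map p ≫ c = adj.counit.app K ≫ a := adj.counit.naturality a
  have h0 : a ≫ R.map φ = 0 := by
    haveI : IsIso (adj.counit.app K) := inferInstance
    rw [← cancel_epi (adj.counit.app K), comp_zero]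
    exact ((Category.assoc _ _ _).symm.trans ((congrArg (· ≫ R.map φ) hnat.symm).trans
      ((Category.assoc _ _ _).trans ((congrArg (R.map p ≫ ·) hcφ).trans
        ((R.map_comp _ _).symm.trans ((congrArg R.map (cokernel.condition p)).trans (R.map_zero _ _)))))))
  let S : ShortComplex (↑W : Scheme.{u}).Modules := ShortComplex.mk a (R.map φ) h0
  have hS : S.Exact := by
    refine (ShortComplex.exact_iff_of_iso (ShortComplex.isoMk (asIso (adj.counit.app K))
      (asIso c) (Iso.refl _) hnat.symm (hcφ.trans (Category.comp_id _).symm) :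
        (ShortComplex.mk p (cokernel.π p) (cokernel.condition p)).map R ≅ S)).1 ?_
    exact (ShortComplex.exact_of_g_is_cokernel _ (cokernelIsCokernel p)).map R
  haveI : Mono S.f := inferInstanceAs (Mono a)
  let e₀ := IsLimit.conePointUniqueUpToIso (kernelIsKernel S.g) hS.fIsKernel
  let e : (kernel φ).restrict W.ι ≅ K := PreservesKernel.iso R φ ≪≫ e₀
  have he : e.hom ≫ a = R.map (kernel.ι φ) := by
    have h1 : e₀.hom ≫ S.f = kernel.ι S.g :=
      IsLimit.conePointUniqueUpToIso_hom_comp (kernelIsKernel S.g) hS.fIsKernel WalkingParallelPair.zero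
    show (_ ≫ _) ≫ S.f = _
    rw [Category.assoc, h1]
    exact kernelComparison_comp_ι φ R
  refine ⟨kernel φ, kernel.ι φ, e, inferInstance, hE, he, fun V hV => ?_⟩
  let RV := Scheme.Modules.restrictFunctor V.ι
  haveI : IsIso (RV.map p) := isIso_restrict_of_bijective p V fun O hO => by
    refine hV (W.ι ⁻¹ᵁ O) ?_
    rintro _ ⟨x, hx, rfl⟩
    exact hO hx
  have hz : RV.map (cokernel.π p) = 0 := by
    have h : RV.map p ≫ RV.map (cokernel.π p) = 0 := by rw [← RV.map_comp, cokernel.condition, RV.map_zero]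
    exact (cancel_epi (RV.map p)).1 (h.trans comp_zero.symm)
  have hφ0 : RV.map φ = 0 := by rw [RV.map_comp, hz, comp_zero]
  haveI : IsIso (kernel.ι (RV.map φ)) :=
    ⟨kernel.lift _ (𝟙 _) (by rw [hφ0, comp_zero]),
      by rw [← cancel_mono (kernel.ι (RV.map φ)), Category.assoc, kernel.lift_ι, Category.comp_id, Category.id_comp],
      kernel.lift_ι _ _ _⟩
  rw [← kernelComparison_comp_ι φ RV]
  infer_instance

/-- Finitely many generators near every point of a subset. -/
def FTOn (H : X.Modules) (U : Set X) : Prop :=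
  ∀ x ∈ U, ∃ (V : X.Opens) (σ : (H.restrict V.ι).GeneratingSections), x ∈ V ∧ Finite σ.I

theorem finite_sections_of_generators {H : X.Modules} [Coh.IsQCoh H] {U W : X.Opens} (hW : IsAffineOpen W)
    (h : W ≤ U) (σ : (H.restrict U.ι).GeneratingSections) [hfin : Finite σ.I] :
    Module.Finite Γ(X, W) Γ(H, W) := by
  let j : Spec Γ(X, W) ⟶ U.toScheme :=
    IsOpenImmersion.lift U.ι hW.fromSpec (by
      rw [Scheme.Opens.range_ι, hW.range_fromSpec]; exact h)
  have hj : j ≫ U.ι = hW.fromSpec := IsOpenImmersion.lift_fac _ _ _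
  haveI : IsOpenImmersion (j ≫ U.ι) := hj ▸ inferInstance
  haveI : IsOpenImmersion j := IsOpenImmersion.of_comp j U.ι
  haveI : PreservesColimitsOfSize.{u, u} (Scheme.Modules.restrictFunctor j) :=
    (Scheme.Modules.restrictAdjunction j).leftAdjoint_preservesColimits
  let e : (Scheme.Modules.restrictFunctor j).obj (H.restrict U.ι) ≅ H.restrict hW.fromSpec :=
    ((Scheme.Modules.restrictFunctorComp j U.ι).symm ≪≫ Scheme.Modules.restrictFunctorCongr hj).app H
  let τ := (σ.map (Scheme.Modules.restrictFunctor j) (Scheme.Modules.restrictUnitIso j).symm).ofEpi e.hom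
  haveI : Finite τ.I := hfin
  exact Groth.L20.ModStalk.finite_sections_affine H hW τ

/-- On an affine open, finitely many sections contain the finitely generated submodule on a smaller
quasi-compact open. -/
theorem exists_fg_submodule {H : X.Modules} [Coh.IsQCoh H] {W : X.Opens} (hW : IsAffineOpen W) {U : X.Opens}
    (hU : IsCompact ((U : Set X) ∩ W))
    (hfin : FTOn H U) :
    ∃ N : Submodule Γ(X, W) Γ(H, W), N.FG ∧ ∃ T : Finset Γ(X, W),
      (U : Set X) ∩ W = (⋃ g ∈ T, (X.basicOpen g : Set X)) ∧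
      ∀ g ∈ T, Submodule.span Γ(X, X.basicOpen g) (Groth.L18.Frame.rs H (X.basicOpen_le g) '' N) = ⊤ := by
  classical
  have hcov : ∀ x : ((U : Set X) ∩ W : Set X), ∃ g : Γ(X, W), X.basicOpen g ≤ U ∧ x.1 ∈ X.basicOpen g ∧
      Module.Finite Γ(X, X.basicOpen g) Γ(H, X.basicOpen g) := fun x => by
    obtain ⟨V, σ, hxV, hσ⟩ := hfin x.1 x.2.1
    obtain ⟨g, hg, hxg⟩ := hW.exists_basicOpen_le (V := U ⊓ V) ⟨x.1, x.2.1, hxV⟩ x.2.2
    exact ⟨g, hg.trans inf_le_left, hxg,
      finite_sections_of_generators (hW.basicOpen g) (hg.trans inf_le_right) σ⟩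
  choose g hgU hxg hgfin using hcov
  obtain ⟨T₀, hT⟩ := hU.elim_finite_subcover (fun x => (X.basicOpen (g x) : Set X)) (fun x => (X.basicOpen (g x)).2)
    fun x hx => Set.mem_iUnion.2 ⟨⟨x, hx⟩, hxg ⟨x, hx⟩⟩
  let T := T₀.image g
  have hgen : ∀ b : T, ∃ S : Finset Γ(H, W),
      Submodule.span Γ(X, X.basicOpen b.1) (Groth.L18.Frame.rs H (X.basicOpen_le b.1) '' S) = ⊤ := by
    rintro ⟨b, hb⟩
    obtain ⟨x, -, rfl⟩ := Finset.mem_image.1 hb
    letI := Module.compHom Γ(H, X.basicOpen (g x)) (X.presheaf.map (homOfLE (X.basicOpen_le (g x))).op).hom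
    letI : Algebra Γ(X, W) Γ(X, X.basicOpen (g x)) :=
      (X.presheaf.map (homOfLE (X.basicOpen_le (g x))).op).hom.toAlgebra
    haveI := Groth.L20.ModStalk.isLocalizedModule_res H hW (g x)
    obtain ⟨G, hG⟩ := (hgfin x).fg_top
    choose num hnum using fun z : Γ(H, X.basicOpen (g x)) => IsLocalizedModule.surj (Submonoid.powers (g x))
      ({ toFun := fun s => Groth.L18.Frame.rs H (X.basicOpen_le (g x)) s
         map_add' := fun a b => map_add _ a b
         map_smul' := fun a s => Groth.L18.Frame.rs_smul H (X.basicOpen_le (g x)) a s } :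
          Γ(H, W) →ₗ[Γ(X, W)] Γ(H, X.basicOpen (g x))) z
    refine ⟨G.image fun z => (num z).1, eq_top_iff.2 (hG ▸ Submodule.span_le.2 fun z hz => ?_)⟩
    have hz' : Groth.L18.Frame.rs H (X.basicOpen_le (g x)) (num z).1 ∈
        Submodule.span Γ(X, X.basicOpen (g x)) (Groth.L18.Frame.rs H (X.basicOpen_le (g x)) '' ↑(G.image fun z => (num z).1)) :=
      Submodule.subset_span ⟨_, Finset.mem_image_of_mem _ hz, rfl⟩
    obtain ⟨n, hn⟩ := (num z).2.2
    have hu : IsUnit (algebraMap Γ(X, W) Γ(X, X.basicOpen (g x)) ((num z).2 : Γ(X, W))) := by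
      rw [← show g x ^ n = ((num z).2 : Γ(X, W)) from hn, map_pow]
      exact (RingedSpace.isUnit_res_basicOpen _ (g x)).pow n
    refine (Submodule.smul_mem_iff_of_isUnit _ hu).1 ?_
    have hz2 : algebraMap Γ(X, W) Γ(X, X.basicOpen (g x)) ((num z).2 : Γ(X, W)) • z =
        Groth.L18.Frame.rs H (X.basicOpen_le (g x)) (num z).1 := hnum z
    rw [hz2]
    exact hz'
  choose S hS using hgen
  refine ⟨Submodule.span Γ(X, W) ↑(T.attach.biUnion S), Submodule.fg_span (Finset.finite_toSet _), T,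
    subset_antisymm ?_ ?_, fun b hb => ?_⟩
  · intro y hy
    obtain ⟨x, hx, hyx⟩ := Set.mem_iUnion₂.1 (hT hy)
    exact Set.mem_iUnion₂.2 ⟨g x, Finset.mem_image_of_mem _ hx, hyx⟩
  · intro y hy
    obtain ⟨b, hb, hyb⟩ := Set.mem_iUnion₂.1 hy
    obtain ⟨x, -, rfl⟩ := Finset.mem_image.1 hb
    exact ⟨hgU x hyb, X.basicOpen_le _ hyb⟩
  · refine eq_top_iff.2 ((hS ⟨b, hb⟩).ge.trans (Submodule.span_mono (Set.image_mono fun s hs => ?_)))
    exact Submodule.subset_span (Finset.mem_biUnion.2 ⟨⟨b, hb⟩, Finset.mem_attach _ _, hs⟩)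

theorem smul_restrict_ι (H : X.Modules) (W : X.Opens) (D : W.toScheme.Opens) (c : Γ(X, W.ι ''ᵁ D))
    (m : Γ(H, W.ι ''ᵁ D)) :
    (show Γ(W.toScheme, D) from c) • (show Γ(H.restrict W.ι, D) from m) = (show Γ(H.restrict W.ι, D) from c • m) := by
  show (W.ι.appIso D).inv (show Γ(W.toScheme, D) from c) • m = c • m
  rw [Scheme.Opens.ι_appIso]
  rfl

/-- Generators transfer along isomorphisms on an open. -/
theorem ftOn_of_isIso_restrict {E H : X.Modules} (i : E ⟶ H) (U : X.Opens)
    [IsIso ((Scheme.Modules.restrictFunctor U.ι).map i)] (hH : FTOn H U) : FTOn E U := by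
  intro x hx
  obtain ⟨V, σ, hxV, hσ⟩ := hH x hx
  obtain ⟨τ, hτ⟩ := Groth.L00.Local.exists_generators_restrict_le H (inf_le_left : V ⊓ U ≤ V) σ
  haveI : IsIso ((Scheme.Modules.restrictFunctor (V ⊓ U).ι).map i) :=
    isIso_restrict_of_bijective i _ fun O hO => bijective_app_of_isIso_restrict i (hO.trans inf_le_right)
  exact ⟨V ⊓ U, τ.ofEpi (inv ((Scheme.Modules.restrictFunctor (V ⊓ U).ι).map i)), ⟨hxV, hx⟩, hτ ▸ hσ⟩

/-- A submodule of finite type on one more affine open. -/
theorem exists_step [QuasiSeparatedSpace X] (H : X.Modules) [Coh.IsQCoh H] (U : X.Opens)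
    (hU : IsCompact (U : Set X)) (hFT : FTOn H U) {W : X.Opens} (hW : IsAffineOpen W) :
    ∃ (E : X.Modules) (i : E ⟶ H), Mono i ∧ Coh.IsQCoh E ∧
      IsIso ((Scheme.Modules.restrictFunctor U.ι).map i) ∧ FTOn E ((U : Set X) ∪ W) := by
  classical
  obtain ⟨N, hN, T, hT, hgen⟩ := exists_fg_submodule hW (QuasiSeparatedSpace.inter_isCompact (U : Set X) (W : Set X) U.2 hU W.2
    hW.isCompact) hFT
  obtain ⟨n, t, rfl⟩ := Submodule.fg_iff_exists_fin_generating_family.1 hN
  let P := H.restrict W.ι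
  haveI : Coh.IsQCoh P := Scheme.Modules.isQuasicoherent_restrictFunctor _ H
  haveI : IsAffine W.toScheme := hW
  let I := ULift.{u} (Fin n)
  let t' : I → Γ(P, ⊤) := fun q => Groth.L18.Frame.rs H W.ι_image_top.le (t q.down)
  let z : I → P.sections := fun q => P.unitHomEquiv (Groth.L16.homOfSection P (t' q))
  let F₀ : W.toScheme.Modules := SheafOfModules.free I
  let ψ : F₀ ⟶ P := P.freeHomEquiv.symm z
  have hψ : ∀ q, t' q ∈ Set.range (Scheme.Modules.Hom.app ψ ⊤) := fun q =>
    ⟨(SheafOfModules.freeSection q).eval (op ⊤),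
      (congrArg (fun s : P.sections => s.eval (op ⊤))
        ((SheafOfModules.freeHomEquiv_apply ψ q).symm.trans
          (congrFun (Equiv.apply_symm_apply P.freeHomEquiv z) q))).trans
        ((Groth.L16.homOfSection_app P (t' q) ⊤ 1).trans ((one_smul _ _).trans (Groth.L18.Frame.rs_self P _ _)))⟩
  let K : W.toScheme.Modules := Abelian.image ψ
  let a : K ⟶ P := Abelian.image.ι ψ
  haveI hlf : SheafOfModules.IsLocallyFree.{u, u, u} (R := W.toScheme.ringCatSheaf) F₀ :=
    inferInstanceAs (SheafOfModules.IsLocallyFree.{u, u, u}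
      (SheafOfModules.free.{u, u, u} (R := W.toScheme.ringCatSheaf) I))
  haveI hfree : Coh.IsQCoh F₀ := inferInstance
  haveI : Coh.IsQCoh K := Groth.L29.DC.isQCoh_kernel' _ inferInstance
    (Groth.L29.DC.isQCoh_cokernel' ψ hfree inferInstance)
  have hψa : ∀ q, t' q ∈ Set.range (a.app ⊤) := fun q => by
    obtain ⟨y, hy⟩ := hψ q
    refine ⟨Scheme.Modules.Hom.app (show F₀ ⟶ K from Abelian.factorThruImage ψ) ⊤ y, ?_⟩
    rw [← hy]
    exact congr(($(Abelian.image.fac ψ)).app ⊤ y)
  have hst : ∀ x : W.toScheme, W.ι x ∈ U →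
      Function.Surjective ((Groth.L00.Stk.F W.toScheme x).map a) := by
    intro x hx
    have hx' : W.ι x ∈ (U : Set X) ∩ W := ⟨hx, x.2⟩
    rw [hT] at hx'
    obtain ⟨g, hg, hxg⟩ := Set.mem_iUnion₂.1 hx'
    let D := W.ι ⁻¹ᵁ X.basicOpen g
    have hDW : W.ι ''ᵁ D = X.basicOpen g := by
      rw [W.ι.image_preimage_eq_opensRange_inf, Scheme.Opens.opensRange_ι]
      exact inf_eq_right.2 (X.basicOpen_le g)
    have hD : IsAffineOpen D := by
      rw [← W.ι.isAffineOpen_iff_of_isOpenImmersion, hDW]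
      exact hW.basicOpen g
    refine Groth.L16.Acc.stalk_surjective a hD (fun z => ?_) hxg
    let w : Γ(H, X.basicOpen g) := Groth.L18.Frame.rs H hDW.ge z
    have hw : w ∈ Submodule.span Γ(X, X.basicOpen g) (Groth.L18.Frame.rs H (X.basicOpen_le g) ''
        (Submodule.span Γ(X, W) (Set.range t) : Set Γ(H, W))) := hgen g hg ▸ Submodule.mem_top
    have hback : z = Groth.L18.Frame.rs H hDW.le w := by
      rw [Groth.L18.Frame.rs_rs]
      exact (Groth.L18.Frame.rs_self H _ _).symm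
    suffices Groth.L18.Frame.rs H hDW.le w ∈ Set.range (a.app D) by rwa [← hback] at this
    have hsmul : ∀ (c : Γ(X, X.basicOpen g)) (v : Γ(H, X.basicOpen g)),
        Groth.L18.Frame.rs H hDW.le v ∈ Set.range (a.app D) →
        Groth.L18.Frame.rs H hDW.le (c • v) ∈ Set.range (a.app D) := by
      rintro c v ⟨k, hk⟩
      refine ⟨(show Γ(W.toScheme, D) from Groth.L18.Frame.ro (X := X) hDW.le c) • k, ?_⟩
      rw [a.app_smul, hk, Groth.L18.Frame.rs_smul]
      exact smul_restrict_ι H W D _ _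
    refine Submodule.span_induction (p := fun v _ => Groth.L18.Frame.rs H hDW.le v ∈ Set.range (a.app D))
      ?_ ⟨0, (map_zero _).trans (map_zero _).symm⟩ ?_ (fun c v _ h => hsmul c v h) hw
    · rintro _ ⟨m, hm, rfl⟩
      rw [Groth.L18.Frame.rs_rs]
      refine Submodule.span_induction
        (p := fun m _ => Groth.L18.Frame.rs H (hDW.le.trans (X.basicOpen_le g)) m ∈ Set.range (a.app D))
        ?_ ⟨0, (map_zero _).trans (map_zero _).symm⟩ ?_ ?_ hm
      · rintro _ ⟨q, rfl⟩
        obtain ⟨k, hk⟩ := hψa ⟨q⟩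
        refine ⟨Groth.L18.Frame.rs K le_top k, ?_⟩
        rw [Groth.L16.EpiFrames.app_rs, hk]
        exact Groth.L18.Frame.rs_rs H _ _ _
      · rintro u v _ _ ⟨k, hk⟩ ⟨l, hl⟩
        exact ⟨k + l, by rw [map_add, hk, hl]; exact (map_add _ _ _).symm⟩
      · rintro c v _ ⟨k, hk⟩
        refine ⟨(show Γ(W.toScheme, D) from Groth.L18.Frame.ro (X := X) (hDW.le.trans (X.basicOpen_le g)) c) • k, ?_⟩
        rw [a.app_smul, hk, Groth.L18.Frame.rs_smul]
        exact smul_restrict_ι H W D _ _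
    · rintro u v _ _ ⟨k, hk⟩ ⟨l, hl⟩
      exact ⟨k + l, by rw [map_add, hk, hl]; exact (map_add _ _ _).symm⟩
  have hbij : ∀ O : W.toScheme.Opens, W.ι ''ᵁ O ≤ U → Function.Bijective (a.app O) := fun O hO => by
    have h := TopCat.Presheaf.app_bijective_of_stalkFunctor_map_bijective
      (F := ((Groth.L21.Mod.toAbSh W.toScheme).obj K)) (G := ((Groth.L21.Mod.toAbSh W.toScheme).obj P))
      ((Groth.L21.Mod.toAbSh W.toScheme).map a) O fun x hx => ?_
    · exact h
    · exact ⟨(ModuleCat.mono_iff_injective ((Groth.L00.Stk.F W.toScheme x).map a)).1 inferInstance,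
        hst x (hO ⟨x, hx, rfl⟩)⟩
  obtain ⟨E, i, e, hi, hE, -, hV⟩ := exists_shrink H W hW.isCompact K a
  haveI := hV U hbij
  refine ⟨E, i, hi, hE, hV U hbij, fun x hx => ?_⟩
  rcases hx with hx | hx
  · exact ftOn_of_isIso_restrict i U hFT x hx
  · haveI : Epi (Abelian.factorThruImage ψ) := inferInstance
    let σ : SheafOfModules.GeneratingSections.{u} K :=
      ⟨I, K.freeHomEquiv (Abelian.factorThruImage ψ), by rw [Equiv.symm_apply_apply]; infer_instance⟩
    exact ⟨W, σ.ofEpi e.inv, hx, inferInstanceAs (Finite I)⟩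

theorem exists_cover_step [QuasiSeparatedSpace X] (U : X.Opens) (hU : IsCompact (U : Set X))
    (s : Finset X.affineOpens) : ∀ (H : X.Modules) [Coh.IsQCoh H], FTOn H U →
    ∃ (E : X.Modules) (i : E ⟶ H), Mono i ∧ Coh.IsQCoh E ∧
      IsIso ((Scheme.Modules.restrictFunctor U.ι).map i) ∧ FTOn E ((U : Set X) ∪ ⋃ W ∈ s, (W.1 : Set X)) := by
  classical
  induction s using Finset.induction generalizing U with
  | empty =>
    intro H _ hH
    exact ⟨H, 𝟙 H, inferInstance, inferInstance, by rw [CategoryTheory.Functor.map_id]; infer_instance, by simpa using hH⟩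
  | insert W s hW ih =>
    intro H _ hH
    obtain ⟨E₁, i₁, hi₁, hE₁, hiso₁, hft₁⟩ := exists_step H U hU hH W.2
    haveI := hE₁
    obtain ⟨E, i, hi, hE, hiso, hft⟩ := ih (U ⊔ W.1) (by rw [Opens.coe_sup]; exact hU.union W.2.isCompact) E₁
      (by rw [Opens.coe_sup]; exact hft₁)
    refine ⟨E, i ≫ i₁, inferInstance, hE, ?_, ?_⟩
    · haveI : IsIso ((Scheme.Modules.restrictFunctor U.ι).map i) :=
        isIso_restrict_of_bijective i _ fun O hO => bijective_app_of_isIso_restrict (V := U ⊔ W.1) i (hO.trans le_sup_left)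
      rw [Functor.map_comp]
      infer_instance
    · rw [Finset.set_biUnion_insert, ← Set.union_assoc]
      rwa [Opens.coe_sup] at hft

/-- A submodule of finite type on a quasi-compact open extends. -/
theorem exists_extension [CompactSpace X] [QuasiSeparatedSpace X] (U : X.Opens) (hU : IsCompact (U : Set X))
    (G : X.Modules) [Coh.IsQCoh G] (F' : U.toScheme.Modules) [Coh.IsQCoh F'] (hF' : CohB1.IsFT F')
    (i' : F' ⟶ G.restrict U.ι) [Mono i'] :
    ∃ (F : X.Modules) (i : F ⟶ G) (e : F.restrict U.ι ≅ F'), Mono i ∧ Coh.IsQCoh F ∧ CohB1.IsFT F ∧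
      e.hom ≫ i' = (Scheme.Modules.restrictFunctor U.ι).map i := by
  obtain ⟨H, j, e, hj, hH, he, -⟩ := exists_shrink G U hU F' i'
  haveI := hH
  have hft : FTOn H (U : Set X) := by
    intro x hx
    obtain ⟨V, σ, hxV, hσ⟩ := Groth.L00.Local.exists_generators_of_isFT F' hF' (⟨x, hx⟩ : U.toScheme)
    haveI : IsIso ((Scheme.Modules.restrictFunctor V.ι).map e.inv) := inferInstance
    let τ : (H.restrict (V.ι ≫ U.ι)).GeneratingSections :=
      (σ.ofEpi ((Scheme.Modules.restrictFunctor V.ι).map e.inv)).ofEpi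
        (Groth.L16.restrictCompIso V.ι U.ι H).hom
    have hτ : τ.I = σ.I := rfl
    let V' : X.Opens := U.ι ''ᵁ V
    let g : V'.toScheme ⟶ V.toScheme := IsOpenImmersion.lift (V.ι ≫ U.ι) V'.ι (by
      rw [Scheme.Opens.range_ι]
      rintro _ ⟨y, hy, rfl⟩
      exact ⟨⟨y, hy⟩, rfl⟩)
    have hg : g ≫ V.ι ≫ U.ι = V'.ι := IsOpenImmersion.lift_fac _ _ _
    haveI : IsOpenImmersion (g ≫ V.ι ≫ U.ι) := hg ▸ inferInstance
    haveI : IsOpenImmersion g := IsOpenImmersion.of_comp g (V.ι ≫ U.ι)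
    obtain ⟨τ', hτ'⟩ := Groth.L16.CohKernel.exists_generators_of_comp g (V.ι ≫ U.ι) V'.ι hg H τ
    exact ⟨V', τ', ⟨⟨x, hx⟩, hxV, rfl⟩, hτ' ▸ hτ ▸ hσ⟩
  obtain ⟨s, hs⟩ := isCompact_univ.elim_finite_subcover (fun V : X.affineOpens => (V.1 : Set X))
    (fun V => V.1.2) (fun x _ => by
      obtain ⟨_, ⟨V, hV, rfl⟩, hxV, -⟩ :=
        X.isBasis_affineOpens.exists_subset_of_mem_open (Set.mem_univ x) isOpen_univ
      exact Set.mem_iUnion.2 ⟨⟨V, hV⟩, hxV⟩)
  obtain ⟨F, i, hi, hF, hiso, hFT⟩ := exists_cover_step U hU s H hft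
  refine ⟨F, i ≫ j, asIso ((Scheme.Modules.restrictFunctor U.ι).map i) ≪≫ e, inferInstance, hF,
    Groth.L00.Local.isFT_of_generators F fun x => ?_, ?_⟩
  · exact hFT x (Or.inr (hs (Set.mem_univ x)))
  · rw [Iso.trans_hom, asIso_hom, Category.assoc, he, ← Functor.map_comp]

/-- The submodule generated by finitely many global sections. -/
theorem exists_image_sections (P : X.Modules) [Coh.IsQCoh P] {I : Type u} [Finite I] (t : I → Γ(P, ⊤)) :
    ∃ (K : X.Modules) (a : K ⟶ P), Mono a ∧ Coh.IsQCoh K ∧ CohB1.IsFT K ∧ ∀ q, t q ∈ Set.range (a.app ⊤) := by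
  let z : I → P.sections := fun q => P.unitHomEquiv (Groth.L16.homOfSection P (t q))
  let F₀ : X.Modules := SheafOfModules.free I
  let ψ : F₀ ⟶ P := P.freeHomEquiv.symm z
  haveI hlf : SheafOfModules.IsLocallyFree.{u, u, u} (R := X.ringCatSheaf) F₀ :=
    inferInstanceAs (SheafOfModules.IsLocallyFree.{u, u, u}
      (SheafOfModules.free.{u, u, u} (R := X.ringCatSheaf) I))
  haveI hfree : Coh.IsQCoh F₀ := inferInstance
  let K : X.Modules := Abelian.image ψ
  haveI hK : Coh.IsQCoh K := Groth.L29.DC.isQCoh_kernel' _ inferInstance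
    (Groth.L29.DC.isQCoh_cokernel' ψ hfree inferInstance)
  let p : F₀ ⟶ K := Abelian.factorThruImage ψ
  let σ : SheafOfModules.GeneratingSections.{u} K :=
    ⟨I, K.freeHomEquiv p, by rw [Equiv.symm_apply_apply]; show Epi (Abelian.factorThruImage ψ); infer_instance⟩
  haveI : PreservesColimitsOfSize.{u, u} (Scheme.Modules.restrictFunctor (⊤ : X.Opens).ι) :=
    (Scheme.Modules.restrictAdjunction (⊤ : X.Opens).ι).leftAdjoint_preservesColimits
  refine ⟨K, Abelian.image.ι ψ, inferInstance, hK, Groth.L00.Local.isFT_of_generators K fun x =>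
    ⟨⊤, σ.map _ (Scheme.Modules.restrictUnitIso _).symm, trivial, inferInstanceAs (Finite I)⟩, fun q => ?_⟩
  refine ⟨Scheme.Modules.Hom.app p ⊤ ((SheafOfModules.freeSection q).eval (op ⊤)), ?_⟩
  refine (congr(($(Abelian.image.fac ψ)).app ⊤ ((SheafOfModules.freeSection q).eval (op ⊤)))).trans ?_
  exact (congrArg (fun s : P.sections => s.eval (op ⊤))
    ((SheafOfModules.freeHomEquiv_apply ψ q).symm.trans
      (congrFun (Equiv.apply_symm_apply P.freeHomEquiv z) q))).trans
    ((Groth.L16.homOfSection_app P (t q) ⊤ 1).trans ((one_smul _ _).trans (Groth.L18.Frame.rs_self P _ _)))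

/-- Finitely many sections over a quasi-compact open lie in a submodule of finite type. -/
theorem exists_submodule_sections [CompactSpace X] [QuasiSeparatedSpace X] (G : X.Modules) [Coh.IsQCoh G]
    (W : X.Opens) (hW : IsCompact (W : Set X)) {I : Type u} [Finite I] (t : I → Γ(G, W)) :
    ∃ (F : X.Modules) (i : F ⟶ G), Mono i ∧ Coh.IsQCoh F ∧ CohB1.IsFT F ∧
      ∀ q, t q ∈ Set.range (i.app W) := by
  haveI : Coh.IsQCoh (G.restrict W.ι) := Scheme.Modules.isQuasicoherent_restrictFunctor _ G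
  obtain ⟨K, a, ha, hK, hKft, hat⟩ := exists_image_sections (G.restrict W.ι)
    (fun q => Groth.L18.Frame.rs G W.ι_image_top.le (t q))
  obtain ⟨F, i, e, hi, hF, hFT, he⟩ := exists_extension W hW G K hKft a
  refine ⟨F, i, hi, hF, hFT, fun q => ?_⟩
  obtain ⟨k, hk⟩ := hat q
  let k' : Γ(F, W.ι ''ᵁ ⊤) := e.inv.app ⊤ k
  have h' : i.app (W.ι ''ᵁ ⊤) k' = Groth.L18.Frame.rs G W.ι_image_top.le (t q) := by
    have h2 : e.inv ≫ (Scheme.Modules.restrictFunctor W.ι).map i = a := by rw [← he, Iso.inv_hom_id_assoc]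
    refine Eq.trans ?_ hk
    exact congr(($h2).app ⊤ k)
  refine ⟨Groth.L18.Frame.rs F W.ι_image_top.ge k', ?_⟩
  rw [Groth.L16.EpiFrames.app_rs, h']
  exact (Groth.L18.Frame.rs_rs G _ _ _).trans (Groth.L18.Frame.rs_self G _ _)

/-- Quotients of modules of finite type are of finite type. -/
theorem isFT_of_epi {P Q : X.Modules} (p : P ⟶ Q) [Epi p] (hP : CohB1.IsFT P) : CohB1.IsFT Q := by
  refine Groth.L00.Local.isFT_of_generators Q fun x => ?_
  obtain ⟨V, σ, hxV, hσ⟩ := Groth.L00.Local.exists_generators_of_isFT P hP x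
  haveI : PreservesColimitsOfSize.{0, 0} (Scheme.Modules.restrictFunctor V.ι) :=
    (Scheme.Modules.restrictAdjunction V.ι).leftAdjoint_preservesColimits
  haveI : Epi ((Scheme.Modules.restrictFunctor V.ι).map p) := inferInstance
  exact ⟨V, σ.ofEpi ((Scheme.Modules.restrictFunctor V.ι).map p), hxV, hσ⟩

/-- Sums of two quasi-coherent modules of finite type. -/
theorem isCoh_biprod {M G : X.Modules} (hM : Coh.IsCoh M) (hG : Coh.IsCoh G) : Coh.IsCoh (M ⊞ G) := by
  haveI : Coh.IsQCoh M := hM.1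
  haveI : Coh.IsQCoh G := hG.1
  refine Groth.L16.CohKernel.isCoh_of_tilde_charts _ fun x => ?_
  obtain ⟨_, ⟨U, hU, rfl⟩, hxU, -⟩ :=
    X.isBasis_affineOpens.exists_subset_of_mem_open (Set.mem_univ x) isOpen_univ
  let j := hU.fromSpec
  obtain ⟨NF, ⟨eF⟩⟩ := Groth.L00.Local.exists_tilde_iso_restrict j M
  obtain ⟨NG, ⟨eG⟩⟩ := Groth.L00.Local.exists_tilde_iso_restrict j G
  haveI := Groth.L16.CohKernel.finite_of_tilde_iso M hM.2 j NF eF
  haveI := Groth.L16.CohKernel.finite_of_tilde_iso G hG.2 j NG eG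
  haveI : PreservesBinaryBiproducts (Scheme.Modules.restrictFunctor j) :=
    preservesBinaryBiproducts_of_preservesBinaryProducts _
  haveI : PreservesBinaryBiproducts (tilde.functor Γ(X, U)) :=
    preservesBinaryBiproducts_of_preservesBinaryCoproducts _
  refine ⟨_, j, inferInstance, NF ⊞ NG, hU.opensRange_fromSpec.ge hxU, ?_, ⟨?_⟩⟩
  · exact Module.Finite.equiv (ModuleCat.biprodIsoProd NF NG).toLinearEquiv.symm
  · exact (Scheme.Modules.restrictFunctor j).mapBiprod M G ≪≫ biprod.mapIso eF eG ≪≫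
      ((tilde.functor Γ(X, U)).mapBiprod NF NG).symm

/-- Sums of two submodules of finite type. -/
theorem exists_sup {G : X.Modules} [Coh.IsQCoh G] {A B : X.Modules} (a : A ⟶ G) (b : B ⟶ G)
    (hA : Coh.IsCoh A) (hB : Coh.IsCoh B) :
    ∃ (C : X.Modules) (c : C ⟶ G) (a' : A ⟶ C) (b' : B ⟶ C),
      Mono c ∧ Coh.IsCoh C ∧ a' ≫ c = a ∧ b' ≫ c = b := by
  let d := biprod.desc a b
  haveI : Coh.IsQCoh (A ⊞ B) := (isCoh_biprod hA hB).1
  refine ⟨Abelian.image d, Abelian.image.ι d, biprod.inl ≫ Abelian.factorThruImage d,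
    biprod.inr ≫ Abelian.factorThruImage d, inferInstance, ⟨?_, isFT_of_epi (Abelian.factorThruImage d) (isCoh_biprod hA hB).2⟩, ?_, ?_⟩
  · exact Groth.L29.DC.isQCoh_kernel' _ inferInstance (Groth.L29.DC.isQCoh_cokernel' d inferInstance inferInstance)
  · rw [Category.assoc, Abelian.image.fac]; exact biprod.inl_desc a b
  · rw [Category.assoc, Abelian.image.fac]; exact biprod.inr_desc a b

/-- A submodule of finite type containing given sections on finitely many opens. -/
theorem exists_submodule_finset [CompactSpace X] [QuasiSeparatedSpace X] (G : X.Modules) [Coh.IsQCoh G]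
    {α : Type*} (W : α → X.Opens) (hW : ∀ k, IsCompact (W k : Set X)) (I : α → Type u) [∀ k, Finite (I k)]
    (t : ∀ k, I k → Γ(G, W k)) (s : Finset α) :
    ∃ (F : X.Modules) (i : F ⟶ G), Mono i ∧ Coh.IsCoh F ∧ ∀ k ∈ s, ∀ q, t k q ∈ Set.range (i.app (W k)) := by
  classical
  induction s using Finset.induction with
  | empty =>
    obtain ⟨F, i, hi, hF, hFT, -⟩ := exists_submodule_sections G (⊥ : X.Opens)
      (by rw [Opens.coe_bot]; exact isCompact_empty) (PEmpty.elim : PEmpty.{u + 1} → Γ(G, (⊥ : X.Opens)))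
    exact ⟨F, i, hi, ⟨hF, hFT⟩, by simp⟩
  | insert k s hk ih =>
    obtain ⟨F, i, hi, hF, hs⟩ := ih
    obtain ⟨F', i', hi', hF', hFT', hk'⟩ := exists_submodule_sections G (W k) (hW k) (t k)
    obtain ⟨C, c, a, b, hc, hC, ha, hb⟩ := exists_sup i i' hF ⟨hF', hFT'⟩
    refine ⟨C, c, hc, hC, fun l hl q => ?_⟩
    rcases Finset.mem_insert.1 hl with rfl | hl
    · obtain ⟨y, hy⟩ := hk' q
      exact ⟨b.app _ y, (congr(($hb).app (W l) y)).trans hy⟩
    · obtain ⟨y, hy⟩ := hs l hl q
      exact ⟨a.app _ y, (congr(($ha).app (W l) y)).trans hy⟩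

end Groth.L17.Approx
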