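import Groth.Agent.L19.TildeFP
import Groth.Agent.L20.ModStalk

/-!
# Restrictions of finitely presented modules
-/

set_option autoImplicit false
set_option linter.style.haveILetI false
set_option backward.isDefEq.respectTransparency false

universe u

open CategoryTheory CategoryTheory.Limits AlgebraicGeometry TopologicalSpace Opposite

noncomputable section

namespace Groth.L17.Approx

/-- Finite presentation restricts along open immersions. -/
theorem isFP_restrict {X Z : Scheme.{u}} (j : Z ⟶ X) [IsOpenImmersion j] (M : X.Modules) [Coh.IsQCoh M]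
    (hM : CohB1.IsFP M) : CohB1.IsFP (M.restrict j) := by
  refine Groth.L19.isFP_of_tilde_charts _ fun z => ?_
  obtain ⟨_, ⟨V, hV, rfl⟩, hxV, hVj⟩ :=
    X.isBasis_affineOpens.exists_subset_of_mem_open (show j z ∈ j.opensRange from ⟨z, rfl⟩) j.opensRange.2
  obtain ⟨g, hxg, P, hP⟩ := Groth.L20.ModStalk.exists_presentation_near M hM hV hxV
  haveI := hP
  let c := (hV.basicOpen g).fromSpec
  haveI : (M.restrict c).IsQuasicoherent := Scheme.Modules.isQuasicoherent_restrictFunctor c M
  haveI := Groth.L20.ModStalk.finitePresentation_sections_spec (M.restrict c) P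
  have hr : Set.range c ⊆ Set.range j := by
    rw [(hV.basicOpen g).range_fromSpec]
    exact fun x hx => hVj (X.basicOpen_le g hx)
  let l : Spec Γ(X, X.basicOpen g) ⟶ Z := IsOpenImmersion.lift j c hr
  have hl : l ≫ j = c := IsOpenImmersion.lift_fac _ _ _
  haveI : IsOpenImmersion (l ≫ j) := hl ▸ inferInstance
  haveI : IsOpenImmersion l := IsOpenImmersion.of_comp l j
  refine ⟨Γ(X, X.basicOpen g), l, inferInstance, (moduleSpecΓFunctor (R := Γ(X, X.basicOpen g))).obj (M.restrict c),
    ?_, inferInstance, ⟨((Scheme.Modules.restrictFunctorComp l j).symm ≪≫ Scheme.Modules.restrictFunctorCongr hl).app M ≪≫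
      (asIso (M.restrict c).fromTildeΓ).symm⟩⟩
  have : j z ∈ Set.range c := by rw [(hV.basicOpen g).range_fromSpec]; exact hxg
  obtain ⟨q, hq⟩ := this
  exact ⟨q, j.isOpenEmbedding.injective (((Scheme.Hom.comp_apply _ _ _).symm.trans (by rw [hl])).trans hq)⟩

end Groth.L17.Approx
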