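import Groth.Agent.L17.Approx.Extend
import Groth.Agent.L17.BC.Change
import Groth.Agent.L20.ModFlat

/-!
# Sections of pullbacks along affine morphisms; a descent criterion for modules
-/

set_option autoImplicit false
set_option linter.style.haveILetI false
set_option backward.isDefEq.respectTransparency false

universe u

open CategoryTheory CategoryTheory.Limits AlgebraicGeometry TopologicalSpace Opposite

noncomputable section

namespace Groth.L17.Approx

open Groth.L18.Frame (rs ro rs_rs rs_self rs_smul ro_ro pull pull_rs pull_smul)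

variable {X X₁ : Scheme.{u}} (g : X ⟶ X₁)

theorem app_pull {G G' : X₁.Modules} (φ : G ⟶ G') (V : X₁.Opens) (m : Γ(G, V)) :
    ((Scheme.Modules.pullback g).map φ).app (g ⁻¹ᵁ V) (pull g G V m) = pull g G' V (φ.app V m) := by
  have h := congr(($((Scheme.Modules.pullbackPushforwardAdjunction g).unit.naturality φ)).app V m)
  exact h.symm

theorem app_pull_adjoint {G : X₁.Modules} {F : X.Modules} (θ : G ⟶ (Scheme.Modules.pushforward g).obj F)
    (V : X₁.Opens) (m : Γ(G, V)) :
    (((Scheme.Modules.pullbackPushforwardAdjunction g).homEquiv G F).symm θ).app (g ⁻¹ᵁ V) (pull g G V m) =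
      θ.app V m := by
  have h : (Scheme.Modules.pullbackPushforwardAdjunction g).unit.app G ≫
      (Scheme.Modules.pushforward g).map
        (((Scheme.Modules.pullbackPushforwardAdjunction g).homEquiv G F).symm θ) = θ := by
    exact (((Scheme.Modules.pullbackPushforwardAdjunction g).homEquiv_unit _ _ _).symm).trans (Equiv.apply_symm_apply _ θ)
  exact congr(($h).app V m)

/-- Pullbacks of generators generate. -/
theorem span_pull_eq_top [IsAffineHom g] (G : X₁.Modules) [Coh.IsQCoh G] {V : X₁.Opens} (hV : IsAffineOpen V)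
    {I : Type*} (m : I → Γ(G, V)) (hm : Submodule.span Γ(X₁, V) (Set.range m) = ⊤) :
    Submodule.span Γ(X, g ⁻¹ᵁ V) (Set.range fun i => pull g G V (m i)) = ⊤ := by
  letI : Algebra Γ(X₁, V) Γ(X, g ⁻¹ᵁ V) := (g.appLE V (g ⁻¹ᵁ V) le_rfl).hom.toAlgebra
  letI := Module.compHom Γ((Scheme.Modules.pullback g).obj G, g ⁻¹ᵁ V) (g.appLE V (g ⁻¹ᵁ V) le_rfl).hom
  haveI : IsScalarTower Γ(X₁, V) Γ(X, g ⁻¹ᵁ V) Γ((Scheme.Modules.pullback g).obj G, g ⁻¹ᵁ V) :=
    IsScalarTower.of_algebraMap_smul fun _ _ => rfl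
  have hbc := Groth.L16.AffineBC.isBaseChange_pull g G hV (hV.preimage g) (le_rfl : g ⁻¹ᵁ V ≤ g ⁻¹ᵁ V)
  have hp : ∀ i, Groth.L16.AffineBC.pullRes g G (le_rfl : g ⁻¹ᵁ V ≤ g ⁻¹ᵁ V) (m i) = pull g G V (m i) :=
    fun i => rs_self _ _ _
  refine eq_top_iff.2 fun y _ => ?_
  induction y using hbc.inductionOn with
  | zero => exact zero_mem _
  | tmul z =>
    have hz : z ∈ Submodule.span Γ(X₁, V) (Set.range m) := hm ▸ Submodule.mem_top
    clear * - hz hp
    induction hz using Submodule.span_induction with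
    | mem z hz =>
      obtain ⟨i, rfl⟩ := hz
      rw [hp]
      exact Submodule.subset_span ⟨i, rfl⟩
    | zero => rw [map_zero]; exact zero_mem _
    | add a b _ _ ha hb => rw [map_add]; exact add_mem ha hb
    | smul c a _ ha =>
      rw [map_smul, ← algebraMap_smul Γ(X, g ⁻¹ᵁ V) c]
      exact Submodule.smul_mem _ _ ha
  | smul b y hy => exact Submodule.smul_mem _ _ (hy trivial)
  | add a b ha hb => exact add_mem (ha trivial) (hb trivial)

variable {Y : Scheme.{u}}

theorem epi_of_surjective_cover {P Q : Y.Modules} [Coh.IsQCoh P] [Coh.IsQCoh Q] (φ : P ⟶ Q) {ι : Type*}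
    (U : ι → Y.Opens) (hU : ∀ i, IsAffineOpen (U i)) (hcov : ∀ y, ∃ i, y ∈ U i)
    (h : ∀ i, Function.Surjective (φ.app (U i))) : Epi φ := by
  rw [Groth.L21.Mod.epi_iff_stalk_surjective]
  intro y
  obtain ⟨i, hi⟩ := hcov y
  exact fun q => Groth.L16.Acc.stalk_surjective φ (hU i) (h i) hi q

theorem mono_of_injective_cover {P Q : Y.Modules} [Coh.IsQCoh P] [Coh.IsQCoh Q] (φ : P ⟶ Q) {ι : Type*}
    (U : ι → Y.Opens) (hU : ∀ i, IsAffineOpen (U i)) (hcov : ∀ y, ∃ i, y ∈ U i)
    (h : ∀ i, Function.Injective (φ.app (U i))) : Mono φ := by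
  haveI : Coh.IsQCoh (kernel φ) := Groth.L29.DC.isQCoh_kernel' φ inferInstance inferInstance
  refine Preadditive.mono_of_kernel_zero ?_
  haveI : Epi (0 : kernel φ ⟶ kernel φ) := epi_of_surjective_cover _ U hU hcov fun i z => by
    refine ⟨0, ?_⟩
    have h0 : φ.app (U i) ((kernel.ι φ).app (U i) z) = φ.app (U i) 0 := by
      rw [map_zero]
      exact congr(($(kernel.condition φ)).app (U i) z)
    have h1 := Groth.L16.Acc.app_injective (kernel.ι φ) (U i) ((h i h0).trans (map_zero _).symm)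
    rw [h1, map_zero]
  exact (IsZero.of_epi_zero (kernel φ) (kernel φ)).eq_of_src _ _

/-- A module on the target whose pullback is a given one. -/
theorem exists_model_of_relations [IsAffineHom g] (G : X₁.Modules) [Coh.IsQCoh G] (F : X.Modules) [Coh.IsQCoh F]
    (θ : G ⟶ (Scheme.Modules.pushforward g).obj F) {ι : Type u} (W : ι → X₁.Opens) (hW : ∀ k, IsAffineOpen (W k))
    (hcov : ∀ x : X, ∃ k, g x ∈ W k) (n : ι → ℕ) (m : ∀ k, Fin (n k) → Γ(G, W k))
    (hm : ∀ k, Submodule.span Γ(X₁, W k) (Set.range (m k)) = ⊤) (J : ι → Type u)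
    (r : ∀ k, J k → Fin (n k) → Γ(X₁, W k))
    (hr : ∀ k j, θ.app (W k) (∑ q, r k j q • m k q) = 0)
    (hgen : ∀ k, Submodule.span Γ(X, g ⁻¹ᵁ W k)
      (Set.range fun q => (show Γ(F, g ⁻¹ᵁ W k) from θ.app (W k) (m k q))) = ⊤)
    (hker : ∀ (k : ι) (β : Fin (n k) → Γ(X, g ⁻¹ᵁ W k)),
      (∑ q, β q • (show Γ(F, g ⁻¹ᵁ W k) from θ.app (W k) (m k q))) = 0 →
        β ∈ Submodule.span Γ(X, g ⁻¹ᵁ W k) (Set.range fun j q => g.app (W k) (r k j q))) :
    ∃ F₁ : X₁.Modules, Coh.IsQCoh F₁ ∧ (CohB1.IsFT G → CohB1.IsFT F₁) ∧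
      Nonempty ((Scheme.Modules.pullback g).obj F₁ ≅ F) := by
  haveI : Coh.IsQCoh ((Scheme.Modules.pushforward g).obj F) := Groth.L16.QcqsPush.isQCoh_push F g
  let adj := Scheme.Modules.pullbackPushforwardAdjunction g
  let F₁ : X₁.Modules := Abelian.image θ
  let p : G ⟶ F₁ := Abelian.factorThruImage θ
  let i : F₁ ⟶ (Scheme.Modules.pushforward g).obj F := Abelian.image.ι θ
  have hpi : p ≫ i = θ := Abelian.image.fac θ
  haveI hF₁ : Coh.IsQCoh F₁ := Groth.L29.DC.isQCoh_kernel' _ inferInstance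
    (Groth.L29.DC.isQCoh_cokernel' θ inferInstance inferInstance)
  haveI : Epi p := inferInstanceAs (Epi (Abelian.factorThruImage θ))
  refine ⟨F₁, hF₁, isFT_of_epi p, ?_⟩
  haveI := Groth.L16.AffineBC.isQCoh_pullback g G
  haveI := Groth.L16.AffineBC.isQCoh_pullback g F₁
  haveI : PreservesColimitsOfSize.{0, 0} (Scheme.Modules.pullback g) := adj.leftAdjoint_preservesColimits
  let πg := (Scheme.Modules.pullback g).map p
  haveI : Epi πg := inferInstance
  let q := (adj.homEquiv F₁ F).symm i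
  let ψ := (adj.homEquiv G F).symm θ
  have hψ : πg ≫ q = ψ := by
    show (Scheme.Modules.pullback g).map p ≫ (adj.homEquiv F₁ F).symm i = (adj.homEquiv G F).symm θ
    rw [← Adjunction.homEquiv_naturality_left_symm, hpi]
  have hψm : ∀ k a, ψ.app (g ⁻¹ᵁ W k) (pull g G (W k) (m k a)) = θ.app (W k) (m k a) := fun k a =>
    app_pull_adjoint g θ (W k) (m k a)
  have hsurj : ∀ k, Function.Surjective (q.app (g ⁻¹ᵁ W k)) := by
    intro k y
    have hy : y ∈ Submodule.span Γ(X, g ⁻¹ᵁ W k)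
        (Set.range fun a => (show Γ(F, g ⁻¹ᵁ W k) from θ.app (W k) (m k a))) := hgen k ▸ Submodule.mem_top
    induction hy using Submodule.span_induction with
    | mem z hz =>
      obtain ⟨a, rfl⟩ := hz
      exact ⟨πg.app _ (pull g G (W k) (m k a)), (congr(($hψ).app (g ⁻¹ᵁ W k) (pull g G (W k) (m k a)))).trans (hψm k a)⟩
    | zero => exact ⟨0, map_zero _⟩
    | add a b _ _ ha hb =>
      obtain ⟨a', rfl⟩ := ha
      obtain ⟨b', rfl⟩ := hb
      exact ⟨a' + b', map_add _ _ _⟩
    | smul c a _ ha =>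
      obtain ⟨a', rfl⟩ := ha
      exact ⟨c • a', q.app_smul _ _⟩
  have hinj : ∀ k, Function.Injective (q.app (g ⁻¹ᵁ W k)) := by
    intro k
    refine (injective_iff_map_eq_zero (q.app (g ⁻¹ᵁ W k)).hom).2 fun x hx => ?_
    obtain ⟨y, rfl⟩ := Groth.L16.AffineBC.surjective_app_of_epi πg ((hW k).preimage g) x
    have hy : y ∈ Submodule.span Γ(X, g ⁻¹ᵁ W k) (Set.range fun a => pull g G (W k) (m k a)) :=
      span_pull_eq_top g G (hW k) (m k) (hm k) ▸ Submodule.mem_top
    obtain ⟨β, rfl⟩ := (Submodule.mem_span_range_iff_exists_fun _).1 hy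
    have hβ : (∑ a, β a • (show Γ(F, g ⁻¹ᵁ W k) from θ.app (W k) (m k a))) = 0 := by
      rw [← hx]
      refine Eq.symm ((congr(($hψ).app (g ⁻¹ᵁ W k) (∑ a, β a • pull g G (W k) (m k a)))).trans ?_)
      rw [map_sum]
      exact Finset.sum_congr rfl fun a _ => (ψ.app_smul _ _).trans (congrArg (β a • ·) (hψm k a))
    have hmem := hker k β hβ
    clear hy hx hβ
    induction hmem using Submodule.span_induction with
    | mem z hz =>
      obtain ⟨j, rfl⟩ := hz
      have e1 : (∑ a, g.app (W k) (r k j a) • pull g G (W k) (m k a)) = pull g G (W k) (∑ a, r k j a • m k a) := by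
        refine Eq.symm ((map_sum _ _ _).trans ?_)
        exact Finset.sum_congr rfl fun a _ => pull_smul g G _ _
      rw [e1]
      refine (app_pull g p (W k) _).trans ?_
      have e2 : p.app (W k) (∑ a, r k j a • m k a) = 0 := Groth.L16.Acc.app_injective i (W k)
        (((congr(($hpi).app (W k) (∑ a, r k j a • m k a))).trans (hr k j)).trans (map_zero _).symm)
      rw [e2]
      exact map_zero _
    | zero => simp only [Pi.zero_apply, zero_smul, Finset.sum_const_zero, map_zero]
    | add a b _ _ ha hb => simp only [Pi.add_apply, add_smul, Finset.sum_add_distrib, map_add, ha, hb, add_zero]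
    | smul c a _ ha =>
      simp only [Pi.smul_apply, smul_eq_mul, mul_smul, ← Finset.smul_sum]
      rw [Scheme.Modules.Hom.app_smul, ha, smul_zero]
  haveI : Epi q := epi_of_surjective_cover q _ (fun k => (hW k).preimage g) hcov hsurj
  haveI : Mono q := mono_of_injective_cover q _ (fun k => (hW k).preimage g) hcov hinj
  haveI : IsIso q := isIso_of_mono_of_epi q
  exact ⟨asIso q⟩

/-- Flatness over an affine base from the sections on an affine cover. -/
theorem isFlatOver_of_flat_sec {A : Type u} [CommRing A] (f : Y ⟶ Spec (CommRingCat.of A)) (F : Y.Modules)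
    [Coh.IsQCoh F] {ι : Type*} (U : ι → Y.Opens) (hU : ∀ i, IsAffineOpen (U i)) (hcov : ∀ y, ∃ i, y ∈ U i)
    (h : ∀ i, Module.Flat A (Groth.L17.BC.Sec (Coh.toGlobal f) F (U i))) : FlatMod.IsFlatOver f F := by
  intro x
  obtain ⟨i, hx⟩ := hcov x
  let R := Γ(Spec (CommRingCat.of A), ⊤)
  rw [Groth.L20.ModStalk.isFlatOverAt_iff f F (isAffineOpen_top _) (hU i) le_top hx]
  letI : Algebra R Γ(Y, U i) := (f.appLE ⊤ (U i) le_top).hom.toAlgebra
  letI : Module R Γ(F, U i) := Module.compHom Γ(F, U i) (f.appLE ⊤ (U i) le_top).hom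
  haveI : IsScalarTower R Γ(Y, U i) Γ(F, U i) := IsScalarTower.of_algebraMap_smul fun _ _ => rfl
  let σ := (Scheme.ΓSpecIso (CommRingCat.of A))
  letI : Algebra R A := σ.hom.hom.toAlgebra
  haveI : Module.Flat R A := RingHom.Flat.of_bijective (ConcreteCategory.bijective_of_isIso σ.hom)
  letI : Module R (Groth.L17.BC.Sec (Coh.toGlobal f) F (U i)) := Module.compHom _ σ.hom.hom
  haveI : IsScalarTower R A (Groth.L17.BC.Sec (Coh.toGlobal f) F (U i)) :=
    IsScalarTower.of_algebraMap_smul fun _ _ => rfl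
  haveI := h i
  haveI hflat : Module.Flat R Γ(F, U i) := by
    have e : Groth.L17.BC.Sec (Coh.toGlobal f) F (U i) ≃ₗ[R] Γ(F, U i) :=
      { (AddEquiv.refl Γ(F, U i)) with
        map_smul' := fun a s => by
          show (f.appLE ⊤ (U i) le_top (σ.inv (σ.hom a))) • (show Γ(F, U i) from s) =
            f.appLE ⊤ (U i) le_top a • (show Γ(F, U i) from s)
          rw [Iso.hom_inv_id_apply] }
    haveI : Module.Flat R (Groth.L17.BC.Sec (Coh.toGlobal f) F (U i)) := Module.Flat.trans R A _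
    exact Module.Flat.of_linearEquiv e.symm
  refine Groth.L20.flat_localizedModule_of_forall _ fun J z hz => ⟨1, one_mem _, ?_⟩
  rw [one_smul]
  exact (injective_iff_map_eq_zero _).1
    (Module.Flat.lTensor_preserves_injective_linearMap _ Subtype.val_injective) z hz

end Groth.L17.Approx
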