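import Groth.Agent.L17.Approx.Pull
import Groth.Agent.L17.BC.Model
import Groth.Agent.L19.Limit.Proper
import Groth.Agent.L05.ModelFG
import Groth.Agent.L07.FlatStage

/-!
# Noetherian models of flat finitely presented modules on proper schemes
-/

set_option autoImplicit false
set_option linter.style.haveILetI false
set_option backward.isDefEq.respectTransparency false

universe u

open CategoryTheory CategoryTheory.Limits AlgebraicGeometry TopologicalSpace Opposite TensorProduct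

noncomputable section

namespace Groth.L17.Approx

open Groth.L18.Frame (rs ro rs_rs rs_self rs_smul ro_ro ro_self pull pull_rs pull_smul)
open Groth.L17.BC (act Sec)

variable {A : Type u} [CommRing A]

/-- A proper model over a finitely generated subring. -/
theorem exists_proper_model {X : Scheme.{u}} (f : X ⟶ Spec (CommRingCat.of A)) [IsProper f]
    [LocallyOfFinitePresentation f] :
    ∃ A₀ : Subalgebra ℤ A, A₀.FG ∧
      ∃ (X₀ : Scheme.{u}) (f₀ : X₀ ⟶ Spec (CommRingCat.of ↥A₀)) (g : X ⟶ X₀),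
        IsProper f₀ ∧ LocallyOfFinitePresentation f₀ ∧
          IsPullback g f f₀ (Spec.map (CommRingCat.ofHom (algebraMap (↥A₀) A))) := by
  obtain ⟨A₀, hA₀, X₀, f₀, g, -, h1, h2, sq⟩ := Groth.L05.ModelFG.exists_model (A := A)
    (P := (⊤ : MorphismProperty Scheme.{u})) (by intro I _ _ D c _ hc i _ X a _ _; exact ⟨i, 𝟙 i, trivial⟩) f trivial
  haveI := h1; haveI := h2
  let D := Groth.L05.ModelFG.specDiagram A
  let c := Groth.L05.ModelFG.specCone A
  let i : (Groth.L05.ModelFG.FG A)ᵒᵖ := op ⟨A₀, hA₀⟩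
  haveI : CompactSpace (D.obj i) := inferInstanceAs (CompactSpace (Spec (CommRingCat.of ↥A₀)))
  haveI : QuasiSeparatedSpace (D.obj i) := inferInstanceAs (QuasiSeparatedSpace (Spec (CommRingCat.of ↥A₀)))
  haveI : CompactSpace X₀ := QuasiCompact.compactSpace_of_compactSpace f₀
  let f₀' : X₀ ⟶ D.obj i := f₀
  haveI : LocallyOfFiniteType f₀' := inferInstanceAs (LocallyOfFiniteType f₀)
  haveI : QuasiCompact f₀' := inferInstanceAs (QuasiCompact f₀)
  have hY : IsPullback (c.π.app i) (𝟙 c.pt) (𝟙 (D.obj i)) (c.π.app i) := IsPullback.of_id_fst.flip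
  let f' : X ⟶ c.pt := f
  haveI : IsProper f' := inferInstanceAs (IsProper f)
  have hX : IsPullback g f' f₀' (c.π.app i) := sq
  haveI : Algebra.FiniteType ℤ A₀ := A₀.fg_iff_finiteType.mp hA₀
  haveI : IsNoetherianRing A₀ := Algebra.FiniteType.isNoetherianRing ℤ A₀
  haveI : IsLocallyNoetherian X₀ := LocallyOfFiniteType.isLocallyNoetherian f₀
  haveI : QuasiSeparatedSpace X₀ := inferInstance
  obtain ⟨j, hj⟩ := Groth.L19.Limit.exists_isProper (D := D) (f₀ := f₀') (g₀ := 𝟙 (D.obj i))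
    (g := 𝟙 c.pt) (Groth.L05.ModelFG.isLimitSpecCone A) hY hX
  let X₁ := pullback (D.map j.hom) f₀'
  let f₁ : X₁ ⟶ D.obj j.left := pullback.fst (D.map j.hom) f₀'
  refine ⟨j.left.unop.1, j.left.unop.2, X₁, f₁,
    pullback.lift (f' ≫ c.π.app j.left) g (by rw [Category.assoc, c.w]; exact hX.w.symm),
    ?_, MorphismProperty.pullback_fst _ _ (inferInstanceAs (LocallyOfFinitePresentation f₀)), ?_⟩
  · let e : X₁ ≅ (Groth.L19.Limit.bcDiagram D (f₀' ≫ 𝟙 (D.obj i))).obj j :=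
      pullback.congrHom rfl (Category.comp_id f₀').symm
    have he : f₁ = e.hom ≫ Groth.L19.Limit.stageHom f₀' (𝟙 (D.obj i)) j ≫ pullback.fst (D.map j.hom) (𝟙 (D.obj i)) := by
      rw [Groth.L19.Limit.stageHom_fst]
      simp [e, f₁, Groth.L19.Limit.bcDiagram]
    haveI := hj
    show IsProper f₁
    rw [he]
    infer_instance
  · exact IsPullback.of_right (by
        show IsPullback _ f' f₀' (c.π.app j.left ≫ D.map j.hom)
        rw [pullback.lift_snd, c.w]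
        exact hX)
      (pullback.lift_fst _ _ _) (IsPullback.of_hasPullback (D.map j.hom) f₀').flip

/-- Enlarging the subring. -/
theorem exists_stage {A₀ A₁ : Subalgebra ℤ A} (hle : A₀ ≤ A₁) {X X₀ : Scheme.{u}}
    (f : X ⟶ Spec (CommRingCat.of A)) (f₀ : X₀ ⟶ Spec (CommRingCat.of ↥A₀)) [IsProper f₀]
    [LocallyOfFinitePresentation f₀] (g : X ⟶ X₀)
    (sq : IsPullback g f f₀ (Spec.map (CommRingCat.ofHom (algebraMap (↥A₀) A)))) :
    ∃ (X₁ : Scheme.{u}) (f₁ : X₁ ⟶ Spec (CommRingCat.of ↥A₁)) (g₁ : X ⟶ X₁) (h : X₁ ⟶ X₀),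
      IsProper f₁ ∧ LocallyOfFinitePresentation f₁ ∧
      IsPullback g₁ f f₁ (Spec.map (CommRingCat.ofHom (algebraMap (↥A₁) A))) ∧
      IsPullback h f₁ f₀ (Spec.map (CommRingCat.ofHom (Subalgebra.inclusion hle).toRingHom)) ∧
      g₁ ≫ h = g := by
  let φ := Spec.map (CommRingCat.ofHom (Subalgebra.inclusion hle).toRingHom)
  let ψ := Spec.map (CommRingCat.ofHom (algebraMap (↥A₁) A))
  have hψφ : ψ ≫ φ = Spec.map (CommRingCat.ofHom (algebraMap (↥A₀) A)) := by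
    rw [← Spec.map_comp]; rfl
  refine ⟨pullback φ f₀, pullback.fst φ f₀, pullback.lift (f ≫ ψ) g (by rw [Category.assoc, hψφ]; exact sq.w.symm),
    pullback.snd φ f₀, MorphismProperty.pullback_fst _ _ ‹_›, MorphismProperty.pullback_fst _ _ ‹_›, ?_,
    (IsPullback.of_hasPullback φ f₀).flip, pullback.lift_snd _ _ _⟩
  exact IsPullback.of_right (by rw [pullback.lift_snd, hψφ]; exact sq) (pullback.lift_fst _ _ _)
    (IsPullback.of_hasPullback φ f₀).flip

/-- Functions on a base change. -/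
theorem exists_sum_coeff {A₀ : Type u} [CommRing A₀] [Algebra A₀ A] {X X₀ : Scheme.{u}}
    (f : X ⟶ Spec (CommRingCat.of A)) (f₀ : X₀ ⟶ Spec (CommRingCat.of A₀)) (g : X ⟶ X₀)
    (sq : IsPullback g f f₀ (Spec.map (CommRingCat.ofHom (algebraMap A₀ A))))
    {V : X₀.Opens} (hV : IsAffineOpen V) (b : Γ(X, g ⁻¹ᵁ V)) :
    ∃ (N : ℕ) (a : Fin N → A) (c : Fin N → Γ(X₀, V)),
      b = ∑ i, act (Coh.toGlobal f) (g ⁻¹ᵁ V) (a i) * g.app V (c i) := by
  letI : Algebra A₀ Γ(X₀, V) := (act (Coh.toGlobal f₀) V).toAlgebra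
  letI : Algebra A Γ(X, g ⁻¹ᵁ V) := (act (Coh.toGlobal f) (g ⁻¹ᵁ V)).toAlgebra
  letI : Algebra Γ(X₀, V) Γ(X, g ⁻¹ᵁ V) := (g.appLE V (g ⁻¹ᵁ V) le_rfl).hom.toAlgebra
  letI : Algebra A₀ Γ(X, g ⁻¹ᵁ V) := ((act (Coh.toGlobal f) (g ⁻¹ᵁ V)).comp (algebraMap A₀ A)).toAlgebra
  haveI : IsScalarTower A₀ A Γ(X, g ⁻¹ᵁ V) := IsScalarTower.of_algebraMap_eq fun _ => rfl
  have hpo := Groth.L17.BC.isPushout_sections f₀ f g sq hV
  haveI : IsScalarTower A₀ Γ(X₀, V) Γ(X, g ⁻¹ᵁ V) := IsScalarTower.of_algebraMap_eq fun a => by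
    show act (Coh.toGlobal f) (g ⁻¹ᵁ V) (algebraMap A₀ A a) = g.appLE V (g ⁻¹ᵁ V) le_rfl (act (Coh.toGlobal f₀) V a)
    rw [← Scheme.Hom.app_eq_appLE]
    exact (ConcreteCategory.congr_hom hpo.w a).symm
  haveI : Algebra.IsPushout A₀ A Γ(X₀, V) Γ(X, g ⁻¹ᵁ V) := by
    refine CommRingCat.isPushout_iff_isPushout.1 ?_
    have : CommRingCat.ofHom (algebraMap Γ(X₀, V) Γ(X, g ⁻¹ᵁ V)) = g.app V := g.app_eq_appLE.symm
    rw [this]
    exact hpo.flip
  have hbc := (Algebra.IsPushout.out : IsBaseChange A (IsScalarTower.toAlgHom A₀ Γ(X₀, V) Γ(X, g ⁻¹ᵁ V)).toLinearMap)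
  induction b using hbc.inductionOn with
  | zero => exact ⟨0, Fin.elim0, Fin.elim0, by simp⟩
  | tmul c => exact ⟨1, fun _ => 1, fun _ => c, by
      rw [Fin.sum_univ_one, map_one, one_mul, Scheme.Hom.app_eq_appLE]; rfl⟩
  | smul a b hb =>
    obtain ⟨N, a', c, rfl⟩ := hb
    refine ⟨N, fun i => a * a' i, c, ?_⟩
    rw [Finset.smul_sum]
    refine Finset.sum_congr rfl fun i _ => ?_
    rw [map_mul, mul_assoc]
    rfl
  | add b b' hb hb' =>
    obtain ⟨N, a, c, rfl⟩ := hb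
    obtain ⟨N', a', c', rfl⟩ := hb'
    exact ⟨N + N', Fin.append a a', Fin.append c c', by simp [Fin.sum_univ_add]⟩

/-- A coherent model of a finitely presented module. -/
theorem exists_coherent_model {X : Scheme.{u}} (f : X ⟶ Spec (CommRingCat.of A)) [IsProper f]
    [LocallyOfFinitePresentation f] (F : X.Modules) (hfp : CohB1.IsFP F) [Coh.IsQCoh F] :
    ∃ A₁ : Subalgebra ℤ A, A₁.FG ∧
      ∃ (X₁ : Scheme.{u}) (f₁ : X₁ ⟶ Spec (CommRingCat.of ↥A₁)) (g₁ : X ⟶ X₁) (F₁ : X₁.Modules),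
        IsProper f₁ ∧ LocallyOfFinitePresentation f₁ ∧ Coh.IsCoh F₁ ∧
          IsPullback g₁ f f₁ (Spec.map (CommRingCat.ofHom (algebraMap (↥A₁) A))) ∧
          Nonempty ((Scheme.Modules.pullback g₁).obj F₁ ≅ F) := by
  classical
  obtain ⟨A₀, hA₀, X₀, f₀, g, hf₀, hlfp, sq⟩ := exists_proper_model f
  haveI := hf₀; haveI := hlfp
  haveI : Algebra.FiniteType ℤ A₀ := A₀.fg_iff_finiteType.mp hA₀
  haveI : IsNoetherianRing A₀ := Algebra.FiniteType.isNoetherianRing ℤ A₀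
  haveI : IsLocallyNoetherian X₀ := LocallyOfFiniteType.isLocallyNoetherian f₀
  haveI : CompactSpace X₀ := QuasiCompact.compactSpace_of_compactSpace f₀
  haveI : QuasiSeparatedSpace X₀ := quasiSeparatedSpace_of_quasiSeparated f₀
  haveI := Groth.L17.BC.isAffineHom_of_isPullback f₀ f g sq
  haveI : Coh.IsQCoh ((Scheme.Modules.pushforward g).obj F) := Groth.L16.QcqsPush.isQCoh_push F g
  haveI : X₀.IsSeparated := ⟨by rw [← terminal.comp_from f₀]; infer_instance⟩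
  obtain ⟨d, W, hcov, haff⟩ := Groth.L17.BC.exists_affine_cover (X := X₀)
  have hW : ∀ k, IsAffineOpen (W k) := fun k => by simpa using haff 0 fun _ => k
  have hcov' : ∀ x : X, ∃ k, g x ∈ W k := fun x => Opens.mem_iSup.1 (hcov ▸ trivial)
  have hfpk : ∀ k, Module.FinitePresentation Γ(X, g ⁻¹ᵁ W k) Γ(F, g ⁻¹ᵁ W k) := fun k =>
    Groth.L20.ModStalk.finitePresentation_sections F hfp ((hW k).preimage g)
  choose nF tF htF using fun k =>
    (haveI := hfpk k; Module.Finite.fg_top : (⊤ : Submodule Γ(X, g ⁻¹ᵁ W k) Γ(F, g ⁻¹ᵁ W k)).FG) |>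
      Submodule.fg_iff_exists_fin_generating_family.1
  obtain ⟨G₀, i, -, hG₀, hi⟩ := exists_submodule_finset ((Scheme.Modules.pushforward g).obj F) W
    (fun k => (hW k).isCompact) (fun k => ULift.{u} (Fin (nF k))) (fun k q => (tF k q.down : Γ(F, g ⁻¹ᵁ W k)))
    Finset.univ
  haveI : Coh.IsQCoh G₀ := hG₀.1
  choose n m hm using fun k =>
    (Groth.L20.ModStalk.finite_sections G₀ hG₀ (hW k)).fg_top |> Submodule.fg_iff_exists_fin_generating_family.1
  let t : ∀ k, Fin (n k) → Γ(F, g ⁻¹ᵁ W k) := fun k q => i.app (W k) (m k q)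
  have ht : ∀ k, Submodule.span Γ(X, g ⁻¹ᵁ W k) (Set.range (t k)) = ⊤ := by
    intro k
    refine eq_top_iff.2 ((htF k).ge.trans (Submodule.span_le.2 ?_))
    rintro _ ⟨q, rfl⟩
    obtain ⟨y, hy⟩ := hi k (Finset.mem_univ _) ⟨q⟩
    have hym : y ∈ Submodule.span Γ(X₀, W k) (Set.range (m k)) := hm k ▸ Submodule.mem_top
    obtain ⟨c, rfl⟩ := (Submodule.mem_span_range_iff_exists_fun _).1 hym
    have e : i.app (W k) (∑ a, c a • m k a) = (∑ a, g.app (W k) (c a) • t k a : Γ(F, g ⁻¹ᵁ W k)) :=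
      (map_sum _ _ _).trans (Finset.sum_congr rfl fun a _ => i.app_smul _ _)
    show tF k q ∈ _
    rw [show tF k q = _ from hy.symm.trans e]
    exact Submodule.sum_mem _ fun a _ => Submodule.smul_mem _ _ (Submodule.subset_span ⟨a, rfl⟩)
  have hR : ∀ k, (LinearMap.ker (Fintype.linearCombination Γ(X, g ⁻¹ᵁ W k) (t k))).FG := fun k => by
    haveI := hfpk k
    refine Module.FinitePresentation.fg_ker _ (LinearMap.range_eq_top.1 ?_)
    rw [Fintype.range_linearCombination]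
    exact ht k
  choose nR R hR' using fun k => Submodule.fg_iff_exists_fin_generating_family.1 (hR k)
  choose N a c hb using fun k (j : Fin (nR k)) (q : Fin (n k)) =>
    exists_sum_coeff f f₀ g sq (hW k) (R k j q)
  let S : Finset A := Finset.univ.biUnion fun k => Finset.univ.biUnion fun j => Finset.univ.biUnion fun q =>
    Finset.univ.image (a k j q)
  let A₁ : Subalgebra ℤ A := A₀ ⊔ Algebra.adjoin ℤ (S : Set A)
  have hA₁ : A₁.FG := hA₀.sup ⟨S, rfl⟩
  have haS : ∀ k j q l, a k j q l ∈ A₁ := fun k j q l =>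
    (le_sup_right : Algebra.adjoin ℤ (S : Set A) ≤ A₁) (Algebra.subset_adjoin (by
      simp only [S, Finset.coe_biUnion, Set.mem_iUnion, Finset.mem_coe, Finset.mem_image, Finset.mem_univ,
        true_and, exists_prop]
      exact ⟨k, j, q, l, rfl⟩))
  haveI : Algebra.FiniteType ℤ A₁ := A₁.fg_iff_finiteType.mp hA₁
  haveI : IsNoetherianRing A₁ := Algebra.FiniteType.isNoetherianRing ℤ A₁
  obtain ⟨X₁, f₁, g₁, h, hf₁, hlfp₁, sq₁, sqh, hgh⟩ := exists_stage (le_sup_left : A₀ ≤ A₁) f f₀ g sq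
  subst hgh
  haveI := hf₁; haveI := hlfp₁
  haveI : IsLocallyNoetherian X₁ := LocallyOfFiniteType.isLocallyNoetherian f₁
  haveI := Groth.L17.BC.isAffineHom_of_isPullback f₁ f g₁ sq₁
  haveI : IsAffineHom h := MorphismProperty.of_isPullback (P := @IsAffineHom) sqh.flip inferInstance
  let G₁ := (Scheme.Modules.pullback h).obj G₀
  haveI : Coh.IsQCoh G₁ := Groth.L16.AffineBC.isQCoh_pullback h G₀
  let adj := Scheme.Modules.pullbackPushforwardAdjunction h
  let i' : G₀ ⟶ (Scheme.Modules.pushforward h).obj ((Scheme.Modules.pushforward g₁).obj F) :=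
    i ≫ (Scheme.Modules.pushforwardComp g₁ h).inv.app F
  let θ : G₁ ⟶ (Scheme.Modules.pushforward g₁).obj F := (adj.homEquiv G₀ _).symm i'
  have hθ : ∀ k q, θ.app (h ⁻¹ᵁ W k) (pull h G₀ (W k) (m k q)) = t k q := fun k q =>
    (app_pull_adjoint h i' (W k) (m k q)).trans rfl
  let ρ₁ := Coh.toGlobal f₁
  let r : ∀ k, Fin (nR k) → Fin (n k) → Γ(X₁, h ⁻¹ᵁ W k) := fun k j q =>
    ∑ l, act ρ₁ (h ⁻¹ᵁ W k) ⟨a k j q l, haS k j q l⟩ * h.app (W k) (c k j q l)
  have hr : ∀ k j q, g₁.app (h ⁻¹ᵁ W k) (r k j q) = R k j q := by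
    intro k j q
    rw [hb k j q, map_sum]
    refine Finset.sum_congr rfl fun l _ => ?_
    rw [map_mul]
    refine congrArg₂ (· * ·) ?_ rfl
    exact ((ro_self _ _).symm.trans (Groth.L17.BC.app_act g₁ ρ₁ (Coh.toGlobal f) (W := g₁ ⁻¹ᵁ h ⁻¹ᵁ W k) le_rfl _ _
      (Groth.L17.BC.compat_of_isPullback f₁ f g₁ sq₁ ⟨a k j q l, haS k j q l⟩)))
  have hθr : ∀ k j, θ.app (h ⁻¹ᵁ W k) (∑ q, r k j q • pull h G₀ (W k) (m k q)) = 0 := by
    intro k j
    have hker : (Fintype.linearCombination Γ(X, (g₁ ≫ h) ⁻¹ᵁ W k) (t k)) (R k j) = 0 := by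
      have : R k j ∈ LinearMap.ker (Fintype.linearCombination Γ(X, (g₁ ≫ h) ⁻¹ᵁ W k) (t k)) :=
        hR' k ▸ Submodule.subset_span ⟨j, rfl⟩
      exact this
    refine ((map_sum _ _ _).trans (Finset.sum_congr rfl fun q _ => ?_)).trans hker
    refine (θ.app_smul _ _).trans ?_
    rw [hθ]
    show (show Γ(X, (g₁ ≫ h) ⁻¹ᵁ W k) from g₁.app (h ⁻¹ᵁ W k) (r k j q)) • t k q = _
    rw [hr k j q]
  obtain ⟨F₁, hF₁, hFT, hiso⟩ := exists_model_of_relations g₁ G₁ F θ (fun k => h ⁻¹ᵁ W k)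
    (fun k => (hW k).preimage h) hcov' n (fun k q => pull h G₀ (W k) (m k q))
    (fun k => span_pull_eq_top h G₀ (hW k) (m k) (hm k)) (fun k => ULift.{u} (Fin (nR k)))
    (fun k j => r k j.down) (fun k j => hθr k j.down)
    (fun k => by
      rw [show (fun q => (show Γ(F, g₁ ⁻¹ᵁ (h ⁻¹ᵁ W k)) from θ.app (h ⁻¹ᵁ W k) (pull h G₀ (W k) (m k q)))) =
        t k from funext (hθ k)]
      exact ht k)
    (fun k β hβ => by
      have hβ' : β ∈ LinearMap.ker (Fintype.linearCombination Γ(X, (g₁ ≫ h) ⁻¹ᵁ W k) (t k)) := by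
        show ∑ q, (show Γ(X, (g₁ ≫ h) ⁻¹ᵁ W k) from β q) • t k q = 0
        refine Eq.trans ?_ hβ
        exact Finset.sum_congr rfl fun q _ => congrArg (fun z => (show Γ(X, (g₁ ≫ h) ⁻¹ᵁ W k) from β q) • (show Γ(F, (g₁ ≫ h) ⁻¹ᵁ W k) from z)) (hθ k q).symm
      rw [← hR' k] at hβ'
      refine Submodule.span_mono ?_ hβ'
      rintro _ ⟨j, rfl⟩
      exact ⟨⟨j⟩, funext (hr k j)⟩)
  exact ⟨A₁, hA₁, X₁, f₁, g₁, F₁, hf₁, hlfp₁,
    ⟨hF₁, hFT (Groth.L16.AffineBC.isCoh_pullback h hG₀).2⟩, sq₁, hiso⟩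

/-- Flatness at a stage from flatness in the limit. -/
theorem exists_flat_coeffs (A₁ : Subalgebra ℤ A) {B M : Type u} [CommRing B] [Algebra A₁ B]
    [Algebra.FinitePresentation A₁ B] [AddCommGroup M] [Module B M] [Module A₁ M] [IsScalarTower A₁ B M]
    [Module.FinitePresentation B M] [Module.Flat A (A ⊗[A₁] M)] :
    ∃ S : Finset A, ∀ (A₂ : Subalgebra ℤ A) (hle : A₁ ≤ A₂), (S : Set A) ⊆ A₂ →
      letI := (Subalgebra.inclusion hle).toRingHom.toAlgebra
      Module.Flat A₂ (A₂ ⊗[A₁] M) := by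
  obtain ⟨d, n, R, hR, K, ⟨e⟩⟩ := Groth.L07.FlatDescent.exists_model (↥A₁) (B₀ := B) M
  haveI := hR
  haveI : IsScalarTower R A₁ A := IsScalarTower.of_algebraMap_eq fun _ => rfl
  obtain ⟨e₁⟩ := Groth.L07.FlatDescent.exists_modelEquiv K e A
  haveI : Module.Flat A (Groth.L07.FlatDescent.MC A K) := Module.Flat.of_linearEquiv e₁.symm
  obtain ⟨B', ⟨S, hS⟩, hB'⟩ := Groth.L07.FlatDescent.exists_fg_stage K A
  refine ⟨S, fun A₂ hle hSA => ?_⟩
  letI := (Subalgebra.inclusion hle).toRingHom.toAlgebra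
  letI : Algebra R A₂ := ((Subalgebra.inclusion hle).toRingHom.comp (algebraMap R A₁)).toAlgebra
  haveI : IsScalarTower R A₁ A₂ := IsScalarTower.of_algebraMap_eq fun _ => rfl
  have hmem : ∀ b ∈ B', b ∈ A₂ := by
    intro b hb
    rw [← hS] at hb
    induction hb using Algebra.adjoin_induction with
    | mem x hx => exact hSA hx
    | algebraMap r => exact hle (show (algebraMap R A₁ r : A₁).1 ∈ A₁ from (algebraMap R A₁ r).2)
    | add x y _ _ hx hy => exact A₂.add_mem hx hy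
    | mul x y _ _ hx hy => exact A₂.mul_mem hx hy
  let χ : B' →+* A₂ :=
    { toFun := fun b => ⟨b.1, hmem b.1 b.2⟩
      map_one' := rfl
      map_mul' := fun _ _ => rfl
      map_zero' := rfl
      map_add' := fun _ _ => rfl }
  letI := χ.toAlgebra
  haveI : IsScalarTower R B' A₂ := IsScalarTower.of_algebraMap_eq fun r => rfl
  haveI : Module.Flat B' (Groth.L07.FlatDescent.MC B' K) := hB'
  haveI := Groth.L07.FlatDescent.flat_MC_of_flat K (A := B') (C := A₂)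
  obtain ⟨e₂⟩ := Groth.L07.FlatDescent.exists_modelEquiv K e A₂
  exact Module.Flat.of_linearEquiv e₂

/-- **A Noetherian model.** A finitely presented module, flat over the base, on a scheme proper of finite
presentation over an affine scheme comes from a coherent flat module on a proper scheme over a Noetherian
subring. -/
theorem exists_noetherian_model {X : Scheme.{u}} (f : X ⟶ Spec (CommRingCat.of A)) [IsProper f]
    [LocallyOfFinitePresentation f] (F : X.Modules) [Coh.IsQCoh F] (hfp : CohB1.IsFP F)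
    (hfl : FlatMod.IsFlatOver f F) :
    ∃ A₀ : Subalgebra ℤ A, IsNoetherianRing A₀ ∧
      ∃ (X₀ : Scheme.{u}) (f₀ : X₀ ⟶ Spec (CommRingCat.of ↥A₀)) (g : X ⟶ X₀) (F₀ : X₀.Modules),
        IsProper f₀ ∧ LocallyOfFinitePresentation f₀ ∧ Coh.IsCoh F₀ ∧ FlatMod.IsFlatOver f₀ F₀ ∧
          IsPullback g f f₀ (Spec.map (CommRingCat.ofHom (algebraMap (↥A₀) A))) ∧
          Nonempty ((Scheme.Modules.pullback g).obj F₀ ≅ F) := by
  classical
  obtain ⟨A₁, hA₁, X₁, f₁, g₁, F₁, hf₁, hlfp₁, hF₁, sq₁, ⟨iso⟩⟩ := exists_coherent_model f F hfp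
  haveI := hf₁; haveI := hlfp₁
  haveI : Algebra.FiniteType ℤ A₁ := A₁.fg_iff_finiteType.mp hA₁
  haveI : IsNoetherianRing A₁ := Algebra.FiniteType.isNoetherianRing ℤ A₁
  haveI : IsLocallyNoetherian X₁ := LocallyOfFiniteType.isLocallyNoetherian f₁
  haveI : CompactSpace X₁ := QuasiCompact.compactSpace_of_compactSpace f₁
  haveI : X₁.IsSeparated := ⟨by rw [← terminal.comp_from f₁]; infer_instance⟩
  haveI : Coh.IsQCoh F₁ := hF₁.1
  haveI := Groth.L17.BC.isAffineHom_of_isPullback f₁ f g₁ sq₁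
  obtain ⟨d, W, hcov, haff⟩ := Groth.L17.BC.exists_affine_cover (X := X₁)
  have hW : ∀ k, IsAffineOpen (W k) := fun k => by simpa using haff 0 fun _ => k
  let ρ₁ := Coh.toGlobal f₁
  let ρ := Coh.toGlobal f
  have key : ∀ k, ∃ S : Finset A, ∀ (A₂ : Subalgebra ℤ A) (hle : A₁ ≤ A₂), (S : Set A) ⊆ A₂ →
      letI := (Subalgebra.inclusion hle).toRingHom.toAlgebra
      Module.Flat A₂ (A₂ ⊗[A₁] Sec ρ₁ F₁ (W k)) := by
    intro k
    letI : Algebra A₁ Γ(X₁, W k) := (act ρ₁ (W k)).toAlgebra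
    letI : Module Γ(X₁, W k) (Sec ρ₁ F₁ (W k)) := inferInstanceAs (Module Γ(X₁, W k) Γ(F₁, W k))
    haveI : IsScalarTower A₁ Γ(X₁, W k) (Sec ρ₁ F₁ (W k)) := IsScalarTower.of_algebraMap_smul fun _ _ => rfl
    haveI : Algebra.FinitePresentation A₁ Γ(X₁, W k) := by
      have h := f₁.finitePresentation_appLE (isAffineOpen_top _) (hW k) le_top
      have h2 : (act ρ₁ (W k)).FinitePresentation := by
        have e : act ρ₁ (W k) =
            (f₁.appLE ⊤ (W k) le_top).hom.comp (Scheme.ΓSpecIso (CommRingCat.of ↥A₁)).inv.hom :=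
          RingHom.ext fun a => rfl
        rw [e]
        exact RingHom.FinitePresentation.comp h (RingHom.FinitePresentation.of_bijective
          (ConcreteCategory.bijective_of_isIso (Scheme.ΓSpecIso (CommRingCat.of ↥A₁)).inv))
      exact h2
    haveI : IsNoetherianRing Γ(X₁, W k) := IsLocallyNoetherian.component_noetherian ⟨W k, hW k⟩
    haveI : Module.Finite Γ(X₁, W k) (Sec ρ₁ F₁ (W k)) := Groth.L20.ModStalk.finite_sections F₁ hF₁ (hW k)
    haveI : Module.FinitePresentation Γ(X₁, W k) (Sec ρ₁ F₁ (W k)) :=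
      Module.finitePresentation_of_finite _ _
    haveI : Module.Flat A (A ⊗[A₁] Sec ρ₁ F₁ (W k)) := by
      have hbc := Groth.L17.BC.hasBC_of_isPullback f₁ f g₁ sq₁ F₁ (W k) (hW k) _ rfl
      haveI := Groth.L17.BC.flat_sec f F hfl ((hW k).preimage g₁)
      let e : Sec ρ (Groth.L17.BC.Fb g₁ F₁) (g₁ ⁻¹ᵁ W k) ≃ₗ[A] Sec ρ F (g₁ ⁻¹ᵁ W k) :=
        LinearEquiv.ofBijective
          ({ toFun := fun z => iso.hom.app _ z
             map_add' := fun a b => map_add _ a b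
             map_smul' := fun a z => iso.hom.app_smul _ _ } :
            Sec ρ (Groth.L17.BC.Fb g₁ F₁) (g₁ ⁻¹ᵁ W k) →ₗ[A] Sec ρ F (g₁ ⁻¹ᵁ W k))
          ((ConcreteCategory.isIso_iff_bijective (iso.hom.app (g₁ ⁻¹ᵁ W k))).1 inferInstance)
      exact Module.Flat.of_linearEquiv (hbc.equiv ≪≫ₗ e)
    exact exists_flat_coeffs A₁ (B := Γ(X₁, W k))
  choose S hS using key
  let A₂ : Subalgebra ℤ A := A₁ ⊔ Algebra.adjoin ℤ ((Finset.univ.biUnion S : Finset A) : Set A)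
  have hA₂ : A₂.FG := hA₁.sup ⟨_, rfl⟩
  haveI : Algebra.FiniteType ℤ A₂ := A₂.fg_iff_finiteType.mp hA₂
  haveI : IsNoetherianRing A₂ := Algebra.FiniteType.isNoetherianRing ℤ A₂
  have hSA : ∀ k, (S k : Set A) ⊆ A₂ := fun k x hx =>
    (le_sup_right : Algebra.adjoin ℤ _ ≤ A₂) (Algebra.subset_adjoin
      (Finset.mem_biUnion.2 ⟨k, Finset.mem_univ k, hx⟩))
  obtain ⟨X₂, f₂, g₂, h, hf₂, hlfp₂, sq₂, sqh, hgh⟩ := exists_stage (le_sup_left : A₁ ≤ A₂) f f₁ g₁ sq₁
  subst hgh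
  haveI := hf₂; haveI := hlfp₂
  haveI : IsLocallyNoetherian X₂ := LocallyOfFiniteType.isLocallyNoetherian f₂
  haveI : IsAffineHom h := MorphismProperty.of_isPullback (P := @IsAffineHom) sqh.flip inferInstance
  let F₂ := (Scheme.Modules.pullback h).obj F₁
  haveI : Coh.IsQCoh F₂ := Groth.L16.AffineBC.isQCoh_pullback h F₁
  letI := (Subalgebra.inclusion (le_sup_left : A₁ ≤ A₂)).toRingHom.toAlgebra
  have hflat : FlatMod.IsFlatOver f₂ F₂ := by
    refine isFlatOver_of_flat_sec f₂ F₂ (fun k => h ⁻¹ᵁ W k) (fun k => (hW k).preimage h)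
      (fun x => by
        have hx : h x ∈ ⨆ k, W k := hcov ▸ trivial
        obtain ⟨k, hk⟩ := Opens.mem_iSup.1 hx
        exact ⟨k, hk⟩) fun k => ?_
    have hbc := Groth.L17.BC.hasBC_of_isPullback f₁ f₂ h sqh F₁ (W k) (hW k) _ rfl
    haveI := hS k A₂ le_sup_left (hSA k)
    exact Module.Flat.of_linearEquiv hbc.equiv.symm
  exact ⟨A₂, ‹_›, X₂, f₂, g₂, F₂, hf₂, hlfp₂, Groth.L16.AffineBC.isCoh_pullback h hF₁, hflat, sq₂,
    ⟨(Scheme.Modules.pullbackComp g₂ h).app F₁ ≪≫ iso⟩⟩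

end Groth.L17.Approx
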